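import Mathlib

/-!
Copies of `Alt(4)` in `GL₂(ℤ/2ᵏ)`.
-/

set_option autoImplicit false

namespace Cfsg.Agent.H41.A4GL

open Matrix Subgroup

local notation "cl" => Subgroup.closure

variable {k : ℕ}

theorem unit_or_even (hk : 1 ≤ k) (x : ZMod (2 ^ k)) : IsUnit x ∨ ∃ y, x = 2 * y := by
  haveI : NeZero (2 ^ k) := ⟨by positivity⟩
  rcases Nat.even_or_odd x.val with ⟨m, hm⟩ | h
  · exact Or.inr ⟨m, by rw [← ZMod.natCast_zmod_val x, hm]; push_cast; ring⟩
  · left
    rw [← ZMod.natCast_zmod_val x, ZMod.isUnit_iff_coprime]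
    exact Nat.Coprime.pow_right _ (Nat.coprime_two_right.2 h)

theorem not_unit_two (hk : 1 ≤ k) (y : ZMod (2 ^ k)) : ¬ IsUnit (2 * y) := fun h => by
  have h2 : IsUnit ((2 : ℕ) : ZMod (2 ^ k)) := by simpa using isUnit_of_mul_isUnit_left h
  rw [ZMod.isUnit_iff_coprime] at h2
  obtain ⟨j, rfl⟩ : ∃ j, k = j + 1 := ⟨k - 1, by omega⟩
  simp only [Nat.coprime_two_left, pow_succ] at h2
  exact absurd h2 (by simp)

theorem unit_odd (hk : 1 ≤ k) (y : ZMod (2 ^ k)) : IsUnit (1 + 2 * y) := by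
  rcases unit_or_even hk (1 + 2 * y) with h | ⟨z, hz⟩
  · exact h
  · exact absurd (show IsUnit (2 * (z - y)) by rw [show 2 * (z - y) = 1 by linear_combination -hz]; simp)
      (not_unit_two hk _)

theorem odd_or_even (hk : 1 ≤ k) (x : ZMod (2 ^ k)) : (∃ y, x = 1 + 2 * y) ∨ ∃ y, x = 2 * y := by
  haveI : NeZero (2 ^ k) := ⟨by positivity⟩
  rcases Nat.even_or_odd x.val with ⟨m, hm⟩ | ⟨m, hm⟩
  · exact Or.inr ⟨m, by rw [← ZMod.natCast_zmod_val x, hm]; push_cast; ring⟩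
  · exact Or.inl ⟨m, by rw [← ZMod.natCast_zmod_val x, hm]; push_cast; ring⟩

theorem two_mul_eq_zero (hk : 1 ≤ k) {x : ZMod (2 ^ k)} (h : 2 * x = 0) :
    x = 0 ∨ x = 2 ^ (k - 1) := by
  haveI : NeZero (2 ^ k) := ⟨by positivity⟩
  obtain ⟨j, rfl⟩ : ∃ j, k = j + 1 := ⟨k - 1, by omega⟩
  have h1 : ((2 * x.val : ℕ) : ZMod (2 ^ (j + 1))) = 0 := by
    push_cast; rw [ZMod.natCast_zmod_val]; exact h
  rw [ZMod.natCast_eq_zero_iff] at h1
  obtain ⟨m, hm⟩ : 2 ^ j ∣ x.val :=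
    Nat.dvd_of_mul_dvd_mul_left (by norm_num : 0 < 2) (by rw [← pow_succ']; exact h1)
  have h2 : 2 ^ j * m < 2 ^ j * 2 := by rw [← hm, ← pow_succ]; exact ZMod.val_lt x
  have h3 : m < 2 := lt_of_mul_lt_mul_left h2 (by positivity)
  rw [← ZMod.natCast_zmod_val x, hm]
  interval_cases m <;> simp

theorem two_mul_pow (hk : 1 ≤ k) : (2 : ZMod (2 ^ k)) * 2 ^ (k - 1) = 0 := by
  obtain ⟨j, rfl⟩ : ∃ j, k = j + 1 := ⟨k - 1, by omega⟩
  have : ((2 ^ (j + 1) : ℕ) : ZMod (2 ^ (j + 1))) = 0 := ZMod.natCast_self _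
  rw [Nat.add_sub_cancel, ← pow_succ']
  exact_mod_cast this

/-- elements of order three -/
theorem three (hk : 1 ≤ k) {p q r s : ZMod (2 ^ k)}
    (h : !![p, q; r, s] * !![p, q; r, s] * !![p, q; r, s] = 1) (h1 : !![p, q; r, s] ≠ 1) :
    IsUnit r ∧ p + s = -1 ∧ p * s - q * r = 1 := by
  have e := fun i j => congrFun (congrFun h i) j
  have e00 := e 0 0
  have e01 := e 0 1
  have e10 := e 1 0
  have e11 := e 1 1
  simp [Matrix.mul_apply, Fin.sum_univ_two] at e00 e01 e10 e11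
  have hd : (p * s - q * r) * ((p * s - q * r) * (p * s - q * r)) = 1 := by
    have := congrArg Matrix.det h
    rw [det_mul, det_mul, det_fin_two_of, det_one] at this
    linear_combination this
  have ud : IsUnit (p * s - q * r) := IsUnit.of_mul_eq_one _ hd
  obtain ⟨d, hd'⟩ := (odd_or_even hk (p * s - q * r)).resolve_right fun ⟨y, hy⟩ =>
    not_unit_two hk y (hy ▸ ud)
  rcases odd_or_even hk (p + s) with ⟨t, ht⟩ | ⟨t, ht⟩
  · have ur : IsUnit r := by
      refine (unit_or_even hk r).resolve_right fun ⟨y, hy⟩ => ?_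
      rcases odd_or_even hk p with ⟨x, hx⟩ | ⟨x, hx⟩
      · refine not_unit_two hk (p * (t - x) - q * y) ?_
        rwa [show 2 * (p * (t - x) - q * y) = p * s - q * r by
          rw [hy]; linear_combination (-p) * ht + p * hx]
      · refine not_unit_two hk (x * s - q * y) ?_
        rwa [show 2 * (x * s - q * y) = p * s - q * r by rw [hy, hx]; ring]
    have f1 : (p + s) ^ 2 = p * s - q * r := by
      refine sub_eq_zero.1 (ur.mul_left_eq_zero.1 ?_)
      linear_combination e10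
    have f2 : (p + s) * (p * s - q * r) = -1 := by linear_combination p * f1 - e00
    have f3 : p + s = -1 := by
      refine eq_neg_of_add_eq_zero_left ((unit_odd hk (t + 2 * t ^ 2)).mul_left_eq_zero.1 ?_)
      rw [← f1, ht] at f2
      rw [ht]; linear_combination f2
    exact ⟨ur, f3, by rw [← f1, f3]; ring⟩
  · exfalso
    have u : IsUnit ((p + s) ^ 2 - (p * s - q * r)) := by
      rw [show (p + s) ^ 2 - (p * s - q * r) = 1 + 2 * (2 * t ^ 2 - d - 1) by rw [ht, hd']; ring]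
      exact unit_odd hk _
    have hq : q = 0 := u.mul_left_eq_zero.1 (by linear_combination e01)
    have hr : r = 0 := u.mul_left_eq_zero.1 (by linear_combination e10)
    have hs : p - s = 0 := u.mul_left_eq_zero.1 (by linear_combination e00 - e11)
    obtain rfl : p = s := sub_eq_zero.1 hs
    subst hq hr
    have hp : p - 1 = 0 := by
      rcases odd_or_even hk p with ⟨x, hx⟩ | ⟨x, hx⟩
      · refine (unit_odd hk (1 + 3 * x + 2 * x ^ 2)).mul_left_eq_zero.1 ?_
        rw [hx] at e00 ⊢; linear_combination e00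
      · refine (unit_odd hk (x + 2 * x ^ 2)).mul_left_eq_zero.1 ?_
        rw [hx] at e00 ⊢; linear_combination e00
    rw [sub_eq_zero.1 hp] at h1
    exact h1 (by rw [Matrix.one_fin_two])

/-- the involutions of an invariant four-group -/
theorem inv (hk : 1 ≤ k) {p q r s : ZMod (2 ^ k)} {a b c : Matrix (Fin 2) (Fin 2) (ZMod (2 ^ k))}
    (ha : a = !![p, q; r, s]) (hb : b = !![0, -1; 1, -1] * a * !![-1, 1; -1, 0])
    (hc : c = !![0, -1; 1, -1] * b * !![-1, 1; -1, 0])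
    (h2 : a * a = 1) (hab : a * b = c) (hba : b * a = c) :
    ∃ v w : ZMod (2 ^ k), 2 * v = 0 ∧ 2 * w = 0 ∧ a = !![1 - w, v; v - w, 1 + w] := by
  obtain ⟨t, ht⟩ : ∃ t : ZMod (2 ^ k), 3 * t = 1 := by
    have := unit_odd hk 1
    rw [show (1 : ZMod (2 ^ k)) + 2 * 1 = 3 by norm_num] at this
    exact this.exists_right_inv
  have u3 : IsUnit (3 : ZMod (2 ^ k)) := IsUnit.of_mul_eq_one _ ht
  obtain ⟨u1, hu1⟩ : ∃ x, x = t * (2 * (r - q) + (s - p)) := ⟨_, rfl⟩
  obtain ⟨v1, hv1⟩ : ∃ x, x = t * ((r - q) + 2 * (s - p)) := ⟨_, rfl⟩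
  obtain ⟨u0, rfl⟩ : ∃ x, p = x - v1 := ⟨p + v1, by ring⟩
  obtain ⟨v0, rfl⟩ : ∃ x, q = x - u1 := ⟨q + u1, by ring⟩
  obtain rfl : r = u1 + v0 - v1 := by
    linear_combination (-(r - (v0 - u1))) * ht - 2 * hu1 + hv1
  obtain rfl : s = u0 - u1 + v1 := by
    linear_combination (-(s - (u0 - v1))) * ht + hu1 - 2 * hv1
  clear hu1 hv1
  subst ha hb hc
  have e := fun i j => congrFun (congrFun h2 i) j
  have f := fun i j => congrFun (congrFun hab i) j
  have g := fun i j => congrFun (congrFun hba i) j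
  have e00 := e 0 0
  have e01 := e 0 1
  have e10 := e 1 0
  have e11 := e 1 1
  have f00 := f 0 0
  have f01 := f 0 1
  have f10 := f 1 0
  have f11 := f 1 1
  have g00 := g 0 0
  have g01 := g 0 1
  have g10 := g 1 0
  have g11 := g 1 1
  simp [Matrix.mul_apply, Fin.sum_univ_two] at e00 e01 e10 e11 f00 f01 f10 f11 g00 g01 g10 g11
  clear e f g h2 hab hba
  have hN : v0 ^ 2 - v0 * v1 + v1 ^ 2 = 0 := u3.mul_right_eq_zero.1 (by
    linear_combination (f00 - g00) + (f10 - g10) - (f01 - g01) + 2 * (f11 - g11))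
  obtain rfl : u1 = 0 := u3.mul_right_eq_zero.1 (by
    linear_combination 3 * hN + 2 * ((e10 - f10) - (e01 - f01)) + ((e11 - f11) - (e00 - f00)))
  obtain rfl : u0 = 1 := sub_eq_zero.1 (u3.mul_right_eq_zero.1 (by
    linear_combination (-3) * hN + (e00 - f00) + (e10 - f10) - (e01 - f01) + 2 * (e11 - f11)))
  exact ⟨v0, v1, by linear_combination e01, by linear_combination hN - e00, by simp⟩

abbrev GL2 (k : ℕ) := GL (Fin 2) (ZMod (2 ^ k))

/-- the standard copy -/
def K0 (k : ℕ) : Subgroup (GL2 k) := cl {x | x.val = !![0, -1; 1, -1] ∨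
  ∃ v w : ZMod (2 ^ k), 2 * v = 0 ∧ 2 * w = 0 ∧ x.val = !![1 - w, v; v - w, 1 + w]}

theorem std (hk : 1 ≤ k) {σ a : GL2 k} (hσ : σ.val = !![0, -1; 1, -1]) (a1 : a ≠ 1)
    (h2 : a * a = 1) (hab : a * (σ * a * σ⁻¹) = σ * (σ * a * σ⁻¹) * σ⁻¹)
    (hba : (σ * a * σ⁻¹) * a = σ * (σ * a * σ⁻¹) * σ⁻¹) : cl {σ, a} = K0 k := by
  have hi : (σ⁻¹).val = !![-1, 1; -1, 0] := by
    refine Units.inv_eq_of_mul_eq_one_right ?_
    rw [hσ]; ext i j; fin_cases i <;> fin_cases j <;> simp [Matrix.mul_apply, Fin.sum_univ_two]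
  obtain ⟨v, w, hv, hw, ha⟩ := inv hk (a := a.val) (b := (σ * a * σ⁻¹).val)
    (c := (σ * (σ * a * σ⁻¹) * σ⁻¹).val) (Matrix.eta_fin_two _)
    (by rw [Units.val_mul, Units.val_mul, hσ, hi]) (by rw [Units.val_mul, Units.val_mul, hσ, hi])
    (congrArg Units.val h2) (congrArg Units.val hab) (congrArg Units.val hba)
  have ms : σ ∈ cl ({σ, a} : Set (GL2 k)) := subset_closure (by simp)
  have ma : a ∈ cl ({σ, a} : Set (GL2 k)) := subset_closure (by simp)
  have mb := mul_mem (mul_mem ms ma) (inv_mem ms)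
  have mc := mul_mem (mul_mem ms mb) (inv_mem ms)
  have hb : (σ * a * σ⁻¹).val = !![1 - (-v), w - v; w - v - (-v), 1 + (-v)] := by
    rw [Units.val_mul, Units.val_mul, hσ, hi, ha]
    ext i j; fin_cases i <;> fin_cases j <;> simp [Matrix.mul_apply, Fin.sum_univ_two] <;> ring
  have hc : (σ * (σ * a * σ⁻¹) * σ⁻¹).val = !![1 - (v - w), -w; -w - (v - w), 1 + (v - w)] := by
    rw [Units.val_mul, Units.val_mul σ, hb, hσ, hi]
    ext i j; fin_cases i <;> fin_cases j <;> simp [Matrix.mul_apply, Fin.sum_univ_two] <;> ring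
  have he := two_mul_pow hk
  have hn : -(2 : ZMod (2 ^ k)) ^ (k - 1) = 2 ^ (k - 1) := by linear_combination -he
  refine le_antisymm ((closure_le _).2 ?_) ((closure_le _).2 ?_)
  · rintro _ (rfl | rfl)
    exacts [subset_closure (Or.inl hσ), subset_closure (Or.inr ⟨v, w, hv, hw, ha⟩)]
  · rintro x (hx | ⟨v', w', hv', hw', hx⟩)
    · rw [show x = σ from Units.ext (hx.trans hσ.symm)]; exact ms
    have k1 : v' = 0 → w' = 0 → x ∈ cl ({σ, a} : Set (GL2 k)) := fun e1 e2 => by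
      rw [show x = 1 from Units.ext (by rw [hx, e1, e2, Units.val_one, Matrix.one_fin_two]; simp)]
      exact one_mem _
    have k2 : v' = v → w' = w → x ∈ cl ({σ, a} : Set (GL2 k)) := fun e1 e2 => by
      rw [show x = a from Units.ext (by rw [hx, e1, e2, ha])]; exact ma
    have k3 : v' = w - v → w' = -v → x ∈ cl ({σ, a} : Set (GL2 k)) := fun e1 e2 => by
      rw [show x = σ * a * σ⁻¹ from Units.ext (by rw [hx, e1, e2, hb])]; exact mb
    have k4 : v' = -w → w' = v - w → x ∈ cl ({σ, a} : Set (GL2 k)) := fun e1 e2 => by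
      rw [show x = σ * (σ * a * σ⁻¹) * σ⁻¹ from Units.ext (by rw [hx, e1, e2, hc])]; exact mc
    have k5 : ¬ (v = 0 ∧ w = 0) := fun ⟨e1, e2⟩ =>
      a1 (Units.ext (by rw [ha, e1, e2, Units.val_one, Matrix.one_fin_two]; simp))
    rcases two_mul_eq_zero hk hv with rfl | rfl <;> rcases two_mul_eq_zero hk hw with rfl | rfl <;>
      rcases two_mul_eq_zero hk hv' with rfl | rfl <;>
      rcases two_mul_eq_zero hk hw' with rfl | rfl <;>
      first
      | exact absurd ⟨rfl, rfl⟩ k5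
      | exact k1 rfl rfl
      | exact k2 rfl rfl
      | (refine k3 ?_ ?_ <;> simp [hn]; done)
      | (refine k4 ?_ ?_ <;> simp [hn]; done)

theorem exists_conj (hk : 1 ≤ k) {σ : GL2 k} (h3 : σ * σ * σ = 1) (h1 : σ ≠ 1) :
    ∃ g : GL2 k, (g * σ * g⁻¹).val = !![0, -1; 1, -1] := by
  obtain ⟨p, q, r, s, hσ⟩ : ∃ p q r s, σ.val = !![p, q; r, s] := ⟨_, _, _, _, Matrix.eta_fin_two _⟩
  obtain ⟨ur, ht, hd⟩ := three hk (p := p) (q := q) (r := r) (s := s)
    (by rw [← hσ]; exact congrArg Units.val h3) (fun e => h1 (Units.ext (hσ.trans e)))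
  obtain ⟨g, hg⟩ : IsUnit (!![1, p; 0, r] : Matrix (Fin 2) (Fin 2) (ZMod (2 ^ k))) := by
    rw [Matrix.isUnit_iff_isUnit_det, det_fin_two_of]; simpa using ur
  refine ⟨g⁻¹, ?_⟩
  rw [inv_inv, Units.val_mul, Units.val_mul, mul_assoc, Units.inv_mul_eq_iff_eq_mul, hσ, hg]
  ext i j
  fin_cases i <;> fin_cases j <;> simp [Matrix.mul_apply, Fin.sum_univ_two]
  · linear_combination p * ht - hd
  · linear_combination r * ht

open Equiv in
theorem a4 : ∃ s v : alternatingGroup (Fin 4), s * s * s = 1 ∧ s ≠ 1 ∧ v ≠ 1 ∧ v * v = 1 ∧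
    v * (s * v * s⁻¹) = s * (s * v * s⁻¹) * s⁻¹ ∧ (s * v * s⁻¹) * v = s * (s * v * s⁻¹) * s⁻¹ ∧
    cl {s, v} = ⊤ := by
  let s : alternatingGroup (Fin 4) := ⟨swap 0 1 * swap 1 2, by simp⟩
  let v : alternatingGroup (Fin 4) := ⟨swap 0 1 * swap 2 3, by simp⟩
  refine ⟨s, v, by decide, by decide, by decide, by decide, by decide, by decide, ?_⟩
  have ms : s ∈ cl ({s, v} : Set (alternatingGroup (Fin 4))) := subset_closure (by simp)
  have mv : v ∈ cl ({s, v} : Set (alternatingGroup (Fin 4))) := subset_closure (by simp)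
  have key : ∀ x : alternatingGroup (Fin 4), ∃ i j l : Fin 3,
      x = s ^ i.val * v ^ j.val * s ^ l.val := by decide +kernel
  refine eq_top_iff.2 fun x _ => ?_
  obtain ⟨i, j, l, rfl⟩ := key x
  exact mul_mem (mul_mem (pow_mem ms _) (pow_mem mv _)) (pow_mem ms _)

theorem exists_map_eq (hk : 1 ≤ k) (H : Subgroup (GL2 k))
    (e : H ≃* alternatingGroup (Fin 4)) :
    ∃ g : GL2 k, H.map (MulAut.conj g).toMonoidHom = K0 k := by
  obtain ⟨s, v, s3, s1, v1, v2, r1, r2, hc⟩ := a4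
  let f : alternatingGroup (Fin 4) →* GL2 k := H.subtype.comp e.symm.toMonoidHom
  have fi : Function.Injective f := H.subtype_injective.comp e.symm.injective
  obtain ⟨g, hg⟩ := exists_conj hk (σ := f s) (by rw [← map_mul, ← map_mul, s3, map_one])
    (by simpa using fi.ne s1)
  let F := (MulAut.conj g).toMonoidHom.comp f
  have Fi : Function.Injective F := (MulAut.conj g).injective.comp fi
  have := std hk (σ := F s) (a := F v) hg (by simpa using Fi.ne v1)
    (by rw [← map_mul, v2, map_one]) (by simpa using congrArg F r1) (by simpa using congrArg F r2)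
  refine ⟨g, ?_⟩
  rw [← this, ← Set.image_pair, ← MonoidHom.map_closure, hc, ← Subgroup.map_map,
    ← MonoidHom.range_eq_map, MonoidHom.range_comp, MonoidHom.range_eq_top.2 e.symm.surjective,
    ← MonoidHom.range_eq_map, range_subtype]

end Cfsg.Agent.H41.A4GL
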